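import Cfsg.Agent.HeC.Bound
import Cfsg.Agent.HeC.Tabs
import Cfsg.Prelude.Def_Spor_He

set_option autoImplicit false
set_option Elab.async false
set_option maxRecDepth 100000
set_option linter.all false

namespace Cfsg.Agent.HeC
open Cfsg.Agent.CGT

noncomputable def c_l0 : Level := ⟨0, [[0], [2], [4], [6], [8], [10], [12]], [1, 6, 2, 3, 2, 4, 5, 3, 1, 2, 6, 5, 3, 6, 4, 2, 3, 5, 1, 2, 3, 6, 1, 5], 0x3ffffffffffffffffffffffffffffffffffffffffffffffffffffffffffffffffffffffffffffffffffffffffffffffffffffffffffffffffffffffffffffffffffffffffffffffffffffffffffffffffffffffffffffffffffffffffffffffffffffffffffffffffffffffffffffffffffffffffffffffffffffffffffffffffffffffffffffffffffffffffffffffffffffffffffffffffffffffffffffffffffffffffffffffffffffffffffffffffffffffffffffffffffffffffffffffffffffffffffffffffffffffffffffffffffffffffffffffffffffffffffffffffffffffffffffffffffffffffffffffffffffffffffffffffffffffffffffffffff, 2058⟩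
noncomputable def c_l1 : Level := ⟨1, [[0], [4], [6], [8], [10], [0, 2, 0, 2], [2, 4, 6, 8, 2, 4, 6, 8, 2, 4, 6, 8, 2, 4, 6, 8, 2, 4, 6, 8, 2, 4, 6, 8, 2, 4, 6, 8]], [1, 2, 1, 3, 4, 2, 1, 4, 3, 2, 1, 4, 2, 1, 6, 2, 4, 2, 1, 3, 2, 1, 4, 3, 2, 1, 6, 0], 0x2ffbffddfbfdefdffdce3cdffffdafff9bff2d3eee6ffe7ffe2f3fdf7fef8f3de6ff9c731ffcde8f1ae37ffff91bf4da93dfdfff1aca0ffffc5ff5c2fa7de203a8eff37dfaee79ee1e83ffe0ffdfff87fd27fe80f5fd71ffc9bf8fff7e6fc03ff77f082f84c887dffee04007bf43a73a0efe001f163ffbdfe7de716ac7fd5d07e1f7fffffe07ffc1fe0efdfffbfff8de77fe7fec03d8de81c101dffef8003f8e9f10ffc0f147dffffdffcb77cf4e0f0fffffff0ffc71fffffffbf9fef8c004f26f48807ff81e234f88fffffef9c88fffc1f26ffff47b0e3b08e91f135d1fff43e73c8bf8bb7f1d0cba6a1f1a178bdef8d46a2033f477fe96801feffb00fff07f1da, 1360⟩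
noncomputable def c_l2 : Level := ⟨7, [[6], [8], [10], [0], [0, 2, 0, 2], [2, 4, 6, 8, 2, 4, 6, 8, 2, 4, 6, 8, 2, 4, 6, 8, 2, 4, 6, 8, 2, 4, 6, 8, 2, 4, 6, 8]], [5, 0, 2, 0, 1, 5, 2, 0], 0x5000000000000000000000000000000000000000000000000000000000000000000000000000000000060000000000000000000000000000000000000000000000000000000000000000000000000000000000000000000000000000006000000000000000000000000000000000000000000000000000000000000000000000000000000000000000000000001400000000000000000000000000000000000000000000000000000000000000000000000000000000000000000000000000000000000000000000000000000000000000000000000000000000000000000000000000040000080060c8, 15⟩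
noncomputable def c_l3 : Level := ⟨544, [[6], [8], [10], [0], [0, 2, 0, 2]], [2, 0, 1], 0x10000000000000000000000000000000000000020000000000000000000000000000000840000000000000000000000000000000000000000000000000000000000000000, 4⟩
noncomputable def c_l4 : Level := ⟨180, [[6], [8], [0], [0, 2, 0, 2]], [0, 1, 2, 0, 3], 0x400040004000000000004008200000000100040800000800000000000000000000000008081200000201000001004000000000000000000406002000001000000000000001000000000000000000000000000000000000000000000, 24⟩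
noncomputable def c_ls : List Level := [c_l0, c_l1, c_l2, c_l3, c_l4]
theorem c_l0_ok : (ptsOK 12 [] && (wordsIn [0, 2, 4, 6, 8, 10, 12] c_l0.S && c_l0.ok 12 m_ns m_ts [])) = true := by decide +kernel
theorem c_l1_ok : (ptsOK 12 [0] && (wordsIn [0, 2, 4, 6, 8, 10, 12] c_l1.S && c_l1.ok 12 m_ns m_ts [0])) = true := by decide +kernel
theorem c_l2_ok : (ptsOK 12 [1, 0] && (wordsIn [0, 2, 4, 6, 8, 10, 12] c_l2.S && c_l2.ok 12 m_ns m_ts [1, 0])) = true := by decide +kernel
theorem c_l3_ok : (ptsOK 12 [7, 1, 0] && (wordsIn [0, 2, 4, 6, 8, 10, 12] c_l3.S && c_l3.ok 12 m_ns m_ts [7, 1, 0])) = true := by decide +kernel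
theorem c_l4_ok : (ptsOK 12 [544, 7, 1, 0] && (wordsIn [0, 2, 4, 6, 8, 10, 12] c_l4.S && c_l4.ok 12 m_ns m_ts [544, 7, 1, 0])) = true := by decide +kernel
theorem c_sound {G : Type*} [Group G] {φ : G →* Equiv.Perm ℕ} {γ : ℕ → G}
    (M : Model φ γ 12 m_ns m_ts) : ChainSound φ (gp γ [0, 2, 4, 6, 8, 10, 12]) 12 [] c_ls :=
  ⟨Level.ok_sound' M c_l0_ok,
   Level.ok_sound' M c_l1_ok,
   Level.ok_sound' M c_l2_ok,
   Level.ok_sound' M c_l3_ok,
   Level.ok_sound' M c_l4_ok, trivial⟩
noncomputable def gens : List Cfsg.Spor.He.Gen := [.a, .b, .c, .d, .e, .f, .g]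
theorem gens_all : ∀ x, x ∈ gens := by intro x; cases x <;> decide
theorem gens_nodup : gens.Nodup := by decide
/-- the generators -/
noncomputable abbrev γ : ℕ → Cfsg.Spor.He := pγ gens Cfsg.Spor.He.edges Cfsg.Spor.He.extra
theorem rels : Holds (ext γ) RR := (pres_holds gens_all _ _).subR (by decide +kernel)
theorem gen_top : gp γ [0, 2, 4, 6, 8, 10, 12] = ⊤ := pres_gen gens_all _ _ (by decide +kernel)
theorem cert : ∃ φ, Cert φ γ 12 m_ns m_ts [0, 2, 4, 6, 8, 10, 12] c_ls := by
  obtain ⟨φ, hφ⟩ := pres_perm gens_all gens_nodup (edges := Cfsg.Spor.He.edges) (extra := Cfsg.Spor.He.extra)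
    (ns := m_ns) rfl m_p (by decide +kernel)
  have M : Model φ γ 12 m_ns m_ts := ⟨m_v, hφ, m_ts_ok⟩
  exact ⟨φ, Cert.of_bound M gen_top (c_sound M) ((bd0 rels).top gen_top) (by decide +kernel)⟩
theorem card_eq : Nat.card Cfsg.Spor.He = 4030387200 := by
  obtain ⟨φ, C⟩ := cert
  exact C.card.trans (by decide +kernel)

end Cfsg.Agent.HeC
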