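import Cfsg.Agent.HeC.Cert
import Cfsg.Agent.CGT.Out

set_option autoImplicit false
set_option Elab.async false
set_option maxRecDepth 100000
set_option linter.all false

namespace Cfsg.Agent.HeC
open Cfsg.Agent.CGT

noncomputable def g_Ws : List (List ℕ) := [[0, 6, 12, 4, 2, 8, 0, 6, 12, 4, 2, 8], [0, 8, 2, 10, 6, 12, 4, 6, 4, 6, 0, 2, 4, 6, 12, 8, 6, 4, 6, 10, 8, 6, 4, 6, 4, 2, 4, 6, 8, 2, 4, 6, 8, 2, 4, 6, 8, 2, 4, 6, 8, 2, 4, 6, 8, 2, 4, 6, 8, 2, 4, 10, 8, 0], [10, 6, 4, 6, 10, 12, 6, 10, 2, 4, 6, 4, 2, 8, 6, 4, 8, 6, 10, 8, 6, 4, 2, 8, 6, 4, 2, 8, 6, 4, 2, 8, 6, 4, 2, 8, 6, 4, 2, 8, 6, 4, 2, 8, 6, 4, 2, 0, 2, 0, 2, 6, 0], [4, 6, 4, 6, 4, 10, 6, 4, 6, 10, 8, 6, 4, 2, 8, 6, 4, 2, 8, 6, 4, 2, 8,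 6, 4, 2, 8, 6, 4, 2, 8, 6, 4, 2, 8, 6, 4, 2, 10, 6, 4, 6, 10, 4, 6, 4, 6, 0], [6, 4, 6, 10, 6, 4, 6, 4, 10, 2, 4, 6, 8, 2, 4, 6, 8, 2, 4, 6, 8, 2, 4, 6, 8, 2, 4, 6, 8, 2, 4, 6, 8, 2, 4, 6, 8, 6, 4, 6, 10, 8, 6, 4, 6, 8, 10, 2, 4, 6, 8, 2, 4, 6, 8, 2, 4, 6, 8, 2, 4, 6, 8, 2, 4, 6, 8, 2, 4, 6, 8, 2, 4, 6, 8, 6, 10, 2, 4, 6, 8, 2, 4, 6, 8, 2, 4, 6, 8, 2, 4, 6, 8, 2, 4, 6, 8, 2, 4, 6, 8, 2, 4, 6, 8, 6, 10, 6], [4, 2, 6, 8, 10, 2, 6, 4, 10, 2, 4, 6, 8, 2, 4, 6, 8, 2, 4, 6, 8, 2, 4, 6, 8, 2, 4, 6, 8, 2, 4, 6, 8, 2, 4, 6, 8, 6, 10, 2, 4, 6, 8, 2, 4, 6, 8, 2, 4, 6, 8, 2, 4, 6, 8, 2, 4, 6, 8, 2, 4, 6, 8, 2, 4, 6, 8, 4, 6, 10, 4, 6, 4, 8, 6, 10, 2, 4, 6, 8, 2, 4, 6, 8, 2, 4, 6, 8, 2, 4, 6, 8, 2, 4, 6, 8, 2,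 4, 6, 8, 2, 4, 10, 8, 0], [6, 4, 6, 10, 6, 4, 6, 4, 10, 2, 4, 6, 8, 2, 4, 6, 8, 2, 4, 6, 8, 2, 4, 6, 8, 2, 4, 6, 8, 2, 4, 6, 8, 2, 4, 6, 8, 6, 4, 6, 10, 8, 6, 4, 6, 8, 10, 2, 4, 6, 8, 2, 4, 6, 8, 2, 4, 6, 8, 2, 4, 6, 8, 2, 4, 6, 8, 2, 4, 6, 8, 2, 4, 6, 8, 6, 10, 2, 4, 6, 8, 2, 4, 6, 8, 2, 4, 6, 8, 2, 4, 6, 8, 2, 4, 6, 8, 2, 4, 6, 8, 2, 4, 6, 8, 6, 10, 6], [2, 6, 0, 2, 10, 6, 4, 8, 6, 10, 8, 4, 6, 4, 10, 2, 4, 6, 8, 2, 4, 6, 8, 2, 4, 6, 8, 2, 4, 6, 8, 2, 4, 6, 8, 2, 4, 6, 8, 2, 4, 6, 8, 6, 10, 2, 4, 6, 8, 2, 4, 6, 8, 2, 4, 6, 8, 2, 4, 6, 8, 2, 4, 6, 8, 2, 4, 6, 8, 2, 4, 6], [10, 8, 6, 4, 2, 8, 6, 4, 2, 8, 6, 4, 2, 8, 6, 4, 2, 8, 6, 4, 2, 8, 6, 4, 2, 8, 6, 4, 2, 10, 0, 2, 0, 2, 6], [0, 2, 4, 6, 8,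 2, 4, 6, 8, 2, 4, 6, 8, 2, 4, 6, 8, 2, 4, 6, 8, 2, 4, 6, 8, 2, 4, 6, 8, 6, 10, 2, 4, 6, 8, 2, 4, 6, 8, 2, 4, 6, 8, 2, 4, 6, 8, 2, 4, 6, 8, 2, 4, 6, 8, 2, 4, 6, 8, 6, 8, 6], [6, 10, 8, 6, 0], [8, 6, 10, 0, 2, 0, 2, 8, 6], [6, 2, 10, 0, 8, 6, 2], [6, 10, 0, 2, 0, 2, 6, 8, 6], [10, 6, 8], [6], [0, 2, 0, 2, 6, 8], [0, 2, 0, 2, 6], [0, 2, 0, 2, 6, 8], [8, 0], [0], [2], [4], [6], [8], [10], [12]]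
theorem g_s0 : slpB 12 m_ts (chainBase [] c_ls) g_Ws [[3, 3, 3, 4, 4, 0, 3, 0, 0, 0], [1, 3, 1, 5, 2, 4, 0, 2, 1, 1, 2], [3, 3, 3, 5, 3, 3, 3, 0, 4], [0, 0, 5, 3, 4, 0, 0, 3, 0, 0, 0], [0, 5, 0, 5, 2, 5, 1, 5, 1, 3, 5], [7, 14, 14, 11, 13, 10, 7, 11, 10, 15], [11, 14, 7, 14, 14, 11, 14, 12, 10, 8, 11], [16, 19, 19, 19, 18, 19, 17], [17, 18, 16, 17, 19, 18, 19, 19, 19], [19, 17, 19, 19, 19, 17, 19, 16], [17, 16, 18, 18, 16], [17, 16, 18, 17, 19, 18, 18, 16], [29, 22, 20, 29, 21, 24, 21], [23, 20, 20, 29, 25, 24], [25, 22, 28, 27, 21, 24, 25], [29, 21, 26, 28, 27, 25], [21, 23, 29, 28, 25, 27, 21, 27], [38, 34, 32], [0, 6, 30], [15, 10, 6, 14, 6, 10, 6, 18, 16, 18, 34], [30], [34, 32], [28, 32, 32],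 [0, 0, 0, 4, 0, 2, 0, 10, 15, 10, 6, 14, 14, 18, 16, 18, 28, 38, 32, 32]] 3 27 = true := by decide +kernel
theorem g_top {G : Type*} [Group G] {φ : G →* Equiv.Perm ℕ} {γ : ℕ → G}
    (C : Cert φ γ 12 m_ns m_ts [0, 2, 4, 6, 8, 10, 12] c_ls) : gw γ (g_Ws.take 3) = ⊤ := by
  have h0 : SlpTo γ (gw γ (g_Ws.take 3)) g_Ws 3 := fun i hi =>
    ev_mem_gw γ (by interval_cases i <;> decide +kernel)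
  rw [eq_top_iff, ← C.gen]
  exact SlpTo.gp_le (SlpTo.step C.M C.base (by decide +kernel) h0 g_s0) (by decide +kernel)

end Cfsg.Agent.HeC
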