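import Cfsg.Agent.HeC.Cert
import Cfsg.Agent.CGT.Out

set_option autoImplicit false
set_option Elab.async false
set_option maxRecDepth 100000
set_option linter.all false

namespace Cfsg.Agent.HeC
open Cfsg.Agent.CGT

noncomputable def cu_l0 : Level := ⟨0, [[0], [2], [4], [6], [8], [10], [12]], [1, 6, 2, 3, 2, 4, 5, 3, 1, 2, 6, 5, 3, 6, 4, 2, 3, 5, 1, 2, 3, 6, 1, 5], 0x3ffffffffffffffffffffffffffffffffffffffffffffffffffffffffffffffffffffffffffffffffffffffffffffffffffffffffffffffffffffffffffffffffffffffffffffffffffffffffffffffffffffffffffffffffffffffffffffffffffffffffffffffffffffffffffffffffffffffffffffffffffffffffffffffffffffffffffffffffffffffffffffffffffffffffffffffffffffffffffffffffffffffffffffffffffffffffffffffffffffffffffffffffffffffffffffffffffffffffffffffffffffffffffffffffffffffffffffffffffffffffffffffffffffffffffffffffffffffffffffffffffffffffffffffffffffffffffffffffff,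 2058⟩
noncomputable def cu_l1 : Level := ⟨1, [[0], [4], [6], [8], [10], [0, 2, 0, 2], [2, 4, 6, 8, 2, 4, 6, 8, 2, 4, 6, 8, 2, 4, 6, 8, 2, 4, 6, 8, 2, 4, 6, 8, 2, 4, 6, 8]], [1, 2, 1, 3, 4, 2, 1, 4, 3, 2, 1, 4, 2, 1, 6, 2, 4, 2, 1, 3, 2, 1, 4, 3, 2, 1, 6, 0], 0x2ffbffddfbfdefdffdce3cdffffdafff9bff2d3eee6ffe7ffe2f3fdf7fef8f3de6ff9c731ffcde8f1ae37ffff91bf4da93dfdfff1aca0ffffc5ff5c2fa7de203a8eff37dfaee79ee1e83ffe0ffdfff87fd27fe80f5fd71ffc9bf8fff7e6fc03ff77f082f84c887dffee04007bf43a73a0efe001f163ffbdfe7de716ac7fd5d07e1f7fffffe07ffc1fe0efdfffbfff8de77fe7fec03d8de81c101dffef8003f8e9f10ffc0f147dffffdffcb77cf4e0f0fffffff0ffc71fffffffbf9fef8c004f26f48807ff81e234f88fffffef9c88fffc1f26ffff47b0e3b08e91f135d1fff43e73c8bf8bb7f1d0cba6a1f1a178bdef8d46a2033f477fe96801feffb00fff07f1da,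 1360⟩
noncomputable def cu_l2 : Level := ⟨105, [[6], [8], [10], [0], [0, 2, 0, 2], [2, 4, 6, 8, 2, 4, 6, 8, 2, 4, 6, 8, 2, 4, 6, 8, 2, 4, 6, 8, 2, 4, 6, 8, 2, 4, 6, 8]], [0, 1, 2, 0, 1, 2, 5, 0, 2, 0, 1, 5, 2, 0], 0x2dd07a4082900100088400011f000d7d02e20c04cc2a1e480801100028000020804008100040000c00000040000b8000000c187408c2040f3c040000e0394200080f0019c0001800020200603618e0859000060000680026010005e0100000000060080f0000071080604000024000080c460000003ec390c68800004375010020c6be8406077d000200405e0080200c008000000000408040018800780000000100404000060dd408800001874001061da00304f00000080000400000000000020800200800000000c3a00009c009e04040000004000600000000000013804100208000803e00000000080017085878000000007476c4000000ef80000f0008000, 360⟩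
noncomputable def cu_l3 : Level := ⟨770, [[0]], [], 0x4000000000000000000000000000000000000000000000000000000000000000020000000000000000000000000000000000000000000000000000000000000000000000000000000000000000000000000000000000000000000000000000000, 2⟩
noncomputable def cu_l4 : Level := ⟨436, [[0, 2, 0, 2, 6]], [], 0x10000000000000000000000000000000000000000000000000000000000000000000000000000000000000000000000000000000000000000000000000000000000000000000000000000000000000000000000000000000000000000000000000000000000000000000000000000000000000000000000000000000010000000000000000000000000000000000000000000000000000000000000000000000000000000000000000000000000000000000000, 2⟩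
noncomputable def cu_ls : List Level := [cu_l0, cu_l1, cu_l2, cu_l3, cu_l4]
noncomputable def cu_S : Srch := ⟨12, m_ts, (chainBase [] c_ls), [6, 10, 0, 2, 8, 4, 6, 10, 4, 6, 4, 10, 8, 6, 4, 2, 8, 6, 4, 2, 8, 6, 4, 2, 8, 6, 4, 2, 8, 6, 4, 2, 8, 6, 4, 2, 8, 6, 4, 2, 6, 10, 8, 4, 6, 4, 8, 6, 4, 2, 8, 6, 4, 2, 8, 6, 4, 2, 8, 6, 4, 2, 8, 6, 4, 2, 8, 6, 4, 2, 8, 6, 4, 2, 6, 8, 0], [6, 10, 0, 2, 8, 4, 6, 10, 4, 6, 4, 10, 8, 6, 4, 2, 8, 6, 4, 2, 8, 6, 4, 2, 8, 6, 4, 2, 8, 6, 4, 2, 8, 6, 4, 2, 8, 6, 4, 2, 6, 10, 8, 4, 6, 4, 8, 6, 4, 2, 8, 6, 4, 2, 8, 6, 4, 2, 8, 6, 4, 2, 8, 6, 4, 2, 8, 6, 4, 2, 8, 6, 4, 2, 6, 8, 0], [[12, 6, 4, 6, 2, 4, 6, 12, 8, 10, 4, 6, 8, 10, 8, 6, 4, 2, 8, 6, 4, 2, 8, 6, 4, 2, 8, 6, 4, 2, 8, 6, 4, 2, 8, 6, 4, 2, 8, 6, 4, 2, 6, 4, 6, 10, 8, 4, 6, 4,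 8, 6, 10, 8, 6, 4, 2, 8, 6, 4, 2, 8, 6, 4, 2, 8, 6, 4, 2, 8, 6, 4, 2, 8, 6, 4, 2, 8, 6, 4, 2, 10, 0, 2, 0, 2]]⟩
noncomputable def cu_lk : List ℕ := [1, 2, 106, 771]
noncomputable def cu_tl : List Level := [cu_l1, cu_l2, cu_l3, cu_l4]
noncomputable def cu_R0 : ℕ := 0x400000000000000000000000000000000000000000000000000000000000000000000100000000000000000000000008000000000000000000000000000000000000000000008000080000000000000000020000000001002000000000000000060000000000008040800010010010000081604000000082214701820880011080000000010040c0101c0048458145c8401099910082a00040140102d29587589500124fab62aeec7acfbe8d77fedcee732d9ff5adffbffbf2fefbdff7fdffd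
theorem cu_l0_ok : (ptsOK 12 [] && (wordsIn [0, 2, 4, 6, 8, 10, 12] cu_l0.S && cu_l0.ok 12 m_ns m_ts [])) = true := by decide +kernel
theorem cu_l1_ok : (ptsOK 12 [0] && (wordsIn [0, 2, 4, 6, 8, 10, 12] cu_l1.S && cu_l1.ok 12 m_ns m_ts [0])) = true := by decide +kernel
theorem cu_l2_ok : (ptsOK 12 [1, 0] && (wordsIn [0, 2, 4, 6, 8, 10, 12] cu_l2.S && cu_l2.ok 12 m_ns m_ts [1, 0])) = true := by decide +kernel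
theorem cu_l3_ok : cu_l3.okT 12 m_ts [0, 2, 4, 6, 8, 10, 12] [105, 1, 0] (.cons [0] .nil .nil) = true := by decide +kernel
theorem cu_l4_ok : cu_l4.okT 12 m_ts [0, 2, 4, 6, 8, 10, 12] [770, 105, 1, 0] (.cons [0] .nil .nil) = true := by decide +kernel
theorem cu_aux : cu_S.auxB [0, 2, 4, 6, 8, 10, 12] cu_ls [] (0 :: cu_lk) = true := by decide +kernel
theorem cu_cov : Nat.beq (Nat.land cu_l0.O (Srch.cover m_ns (invW cu_S.u') cu_R0 7)) cu_l0.O = true := by decide +kernel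
theorem cu_r0 : cu_S.run (.cons [] (.cons [] (.cons [] (.cons [] (.cons [] (.leaf 2000) .nil) .nil) .nil) .nil) (.cons [12] (.cons [13, 8, 2, 4, 8, 12, 6, 4, 8, 2, 4, 2] .nil .nil) (.cons [4, 2] .nil (.cons [12, 2] .nil (.cons [6, 12] (.cons [13, 2, 4, 6, 8, 12, 4, 8, 2, 4, 2] (.cons [10, 2, 0, 2, 4, 10, 0, 2] .nil .nil) .nil) (.cons [6, 4, 2] .nil (.cons [12, 4, 2] (.cons [6, 2, 4, 2, 4, 6, 8, 13, 4, 8, 4, 6, 4, 2, 4, 2] .nil .nil) (.cons [6, 12, 2] .nil (.cons [4, 6, 12] .nil (.cons [8, 6, 12] (.cons [6, 4, 8, 2, 4, 2, 8, 13, 4, 8, 6, 2, 4, 2] (.cons [0, 4, 10, 4, 0, 2, 0, 4, 11, 4] .nil .nil) .nil) (.cons [10, 6, 12] .nil (.cons [4, 6, 4, 2] .nil (.cons [10, 6, 4, 2] (.cons [4, 6, 4, 2, 4, 6, 2, 8, 12, 4, 8, 6, 4, 2, 4, 2] .nil .nil) (.cons [4, 6, 12, 2] .nil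 (.cons [8, 6, 12, 2] (.cons [6, 4, 8, 4, 2, 4, 8, 2, 4, 2] .nil .nil) (.cons [10, 6, 12, 2] (.cons [2, 4, 6, 4, 2, 8, 12, 4, 8, 6, 4, 2, 4, 2] .nil .nil) (.cons [2, 4, 6, 12] (.cons [4, 6, 2, 8, 13, 4, 8, 6, 4, 2, 4, 2] .nil .nil) (.cons [6, 4, 6, 12] (.cons [4, 2, 4, 8, 12, 6, 4, 2, 4, 8, 6, 4, 2] .nil .nil) (.cons [8, 4, 6, 12] (.cons [4, 6, 2, 4, 8, 12, 6, 4, 2, 4, 8, 6, 4, 2] .nil .nil) (.cons [10, 4, 6, 12] (.cons [6, 4, 8, 12, 2, 4, 8, 2, 4, 2] .nil .nil) (.cons [10, 8, 6, 12] (.cons [4, 2, 4, 6, 4, 2, 8, 13, 4, 8, 6, 4, 2, 4, 2] .nil .nil) (.cons [6, 4, 6, 4, 2] (.cons [2, 8, 4, 2, 4, 8, 13, 8, 6, 4, 8, 6, 2, 4, 2] (.cons [10, 4, 11] .nil .nil) .nil) (.cons [8, 4, 6, 4, 2] (.cons [2, 8, 4, 2, 4, 8, 12, 6, 4, 8, 4, 2, 4, 2] .nil .nil) (.cons [10, 4, 6, 4,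 2] .nil (.cons [10, 8, 6, 4, 2] (.cons [8, 4, 2, 4, 6, 2, 8, 12, 4, 8, 6, 2, 4, 2] .nil .nil) (.cons [2, 4, 6, 12, 2] .nil (.cons [6, 4, 6, 12, 2] (.cons [8, 6, 4, 8, 13, 2, 4, 8, 2, 4, 2] .nil .nil) (.cons [8, 4, 6, 12, 2] (.cons [8, 6, 4, 8, 12, 2, 4, 8, 2, 4, 2] .nil .nil) (.cons [10, 4, 6, 12, 2] .nil (.cons [10, 8, 6, 12, 2] (.cons [8, 13, 4, 2, 4, 2, 8, 12, 4, 8, 6, 2, 4, 2] .nil .nil) (.cons [6, 2, 4, 6, 12] .nil (.cons [10, 2, 4, 6, 12] .nil (.cons [4, 6, 4, 6, 12] (.cons [8, 4, 6, 4, 8, 4, 2, 4, 8, 13, 2, 4, 8, 2, 4, 2] .nil .nil) (.cons [8, 6, 4, 6, 12] .nil (.cons [10, 8, 4, 6, 12] (.cons [2, 6, 8, 12, 4, 8, 2, 4, 2] .nil .nil) (.cons [6, 10, 8, 6, 12] (.cons [4, 2, 4, 2, 8, 13, 4, 8, 4, 6, 4, 2, 4, 2] .nil .nil) (.cons [0, 2, 4, 6, 4, 2] .nil (.cons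 [6, 2, 4, 6, 4, 2] (.cons [13, 6, 4, 8, 6, 4, 2, 4, 2] .nil .nil) (.cons [10, 2, 4, 6, 4, 2] .nil (.cons [10, 6, 4, 6, 4, 2] .nil (.cons [12, 6, 4, 6, 4, 2] .nil (.cons [6, 8, 4, 6, 4, 2] .nil (.cons [10, 8, 4, 6, 4, 2] (.cons [6, 8, 12, 4, 2, 4, 8, 4, 2, 4, 2] (.cons [10, 4, 0, 4, 11] .nil .nil) .nil) (.cons [6, 10, 4, 6, 4, 2] (.cons [6, 8, 13, 4, 2, 4, 8, 4, 2, 4, 2] .nil .nil) (.cons [6, 10, 8, 6, 4, 2] (.cons [8, 6, 4, 2, 4, 6, 2, 8, 13, 4, 8, 6, 2, 4, 2] .nil .nil) (.cons [0, 2, 4, 6, 12, 2] (.cons [2, 4, 8, 2, 4, 8, 12, 2, 4, 8, 2, 4, 2] (.cons [4, 11, 4, 0, 2, 4, 11, 4, 0] .nil .nil) .nil) (.cons [10, 2, 4, 6, 12, 2] .nil (.cons [12, 6, 4, 6, 12, 2] .nil (.cons [6, 8, 4, 6, 12, 2] .nil (.cons [10, 8, 4, 6, 12, 2] (.cons [4, 2, 4, 2, 6, 8, 12, 4, 8, 2,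 4, 2] .nil .nil) (.cons [6, 10, 4, 6, 12, 2] (.cons [4, 2, 4, 2, 8, 12, 6, 4, 8, 2, 4, 2] (.cons [11, 4, 10, 0, 4, 2, 0] .nil .nil) .nil) (.cons [6, 10, 8, 6, 12, 2] (.cons [6, 4, 2, 8, 12, 4, 2, 8, 12, 6, 4, 8, 2, 4, 2] .nil .nil) (.cons [6, 0, 2, 4, 6, 12] .nil (.cons [4, 6, 2, 4, 6, 12] (.cons [4, 2, 8, 12, 4, 2, 4, 8, 6, 4, 2] (.cons [0, 4, 11, 2] .nil .nil) .nil) (.cons [8, 6, 2, 4, 6, 12] (.cons [13, 8, 4, 2, 4, 8, 2, 4, 2] (.cons [2, 4, 11, 4] .nil .nil) .nil) (.cons [12, 6, 2, 4, 6, 12] .nil (.cons [8, 4, 6, 4, 6, 12] (.cons [2, 4, 6, 2, 4, 2, 8, 12, 4, 8, 6, 4, 2, 4, 2] .nil .nil) (.cons [10, 4, 6, 4, 6, 12] .nil (.cons [6, 8, 6, 4, 6, 12] (.cons [4, 2, 4, 2, 8, 12, 4, 2, 4, 8, 4, 2, 4, 2] .nil .nil) (.cons [12, 10, 6, 4, 6, 12] (.cons [6, 4, 8, 13, 8,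 4, 2, 4, 8, 2, 4, 2] .nil .nil) (.cons [6, 0, 2, 4, 6, 4, 2] (.cons [6, 2, 8, 12, 4, 2, 8, 12, 4, 8, 6, 2, 4, 2] .nil .nil) (.cons [10, 0, 2, 4, 6, 4, 2] .nil (.cons [4, 6, 2, 4, 6, 4, 2] (.cons [4, 8, 6, 4, 8, 6, 2, 4, 2] .nil .nil) (.cons [8, 6, 2, 4, 6, 4, 2] (.cons [13, 4, 8, 2, 4, 2] .nil .nil) (.cons [12, 6, 2, 4, 6, 4, 2] (.cons [6, 2, 4, 8, 2, 4, 8, 12, 2, 4, 8, 2, 4, 2] .nil .nil) (.cons [6, 10, 2, 4, 6, 4, 2] (.cons [12, 2, 4, 8, 6, 4, 2] .nil .nil) (.cons [6, 8, 6, 4, 6, 4, 2] .nil (.cons [10, 8, 6, 4, 6, 4, 2] (.cons [8, 2, 4, 6, 2, 8, 12, 4, 2, 4, 8, 6, 4, 2] .nil .nil) (.cons [12, 8, 6, 4, 6, 4, 2] (.cons [4, 6, 2, 4, 6, 2, 8, 13, 4, 2, 4, 8, 6, 4, 2] .nil .nil) (.cons [6, 10, 6, 4, 6, 4, 2] .nil (.cons [12, 10, 6, 4, 6, 4, 2] (.cons [8, 4, 2, 4,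 2, 8, 12, 4, 2, 4, 8, 6, 4, 2] .nil .nil) (.cons [10, 12, 6, 4, 6, 4, 2] (.cons [12, 6, 2, 4, 8, 2, 4, 2] (.cons [4, 11, 2] .nil .nil) .nil) (.cons [10, 6, 8, 4, 6, 4, 2] .nil (.cons [12, 6, 8, 4, 6, 4, 2] .nil (.cons [4, 6, 10, 4, 6, 4, 2] (.cons [12, 4, 2, 4, 8, 4, 2, 4, 2] .nil .nil) (.cons [8, 6, 10, 4, 6, 4, 2] (.cons [4, 2, 4, 8, 4, 2, 4, 2, 8, 12, 4, 2, 4, 8, 6, 4, 2] .nil .nil) (.cons [4, 6, 10, 8, 6, 4, 2] .nil (.cons [10, 0, 2, 4, 6, 12, 2] (.cons [12, 4, 2, 4, 8, 6, 2, 4, 2] (.cons [4, 0, 2, 4, 11, 4] .nil .nil) .nil) (.cons [4, 6, 2, 4, 6, 12, 2] (.cons [8, 2, 4, 6, 2, 8, 12, 4, 2, 4, 8, 6, 4, 2] (.cons [0, 2, 4, 11, 4, 0] .nil .nil) .nil) (.cons [10, 6, 2, 4, 6, 12, 2] (.cons [13, 6, 4, 2, 4, 8, 2, 4, 2] (.cons [4, 11, 4, 0, 4, 2, 0, 4, 11, 4] .nil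 .nil) .nil) (.cons [6, 10, 2, 4, 6, 12, 2] (.cons [12, 8, 13, 4, 8, 2, 4, 2] (.cons [0, 4, 10, 2, 0] .nil .nil) .nil) (.cons [6, 8, 6, 4, 6, 12, 2] .nil (.cons [10, 8, 6, 4, 6, 12, 2] .nil (.cons [12, 8, 6, 4, 6, 12, 2] (.cons [4, 6, 4, 2, 8, 12, 4, 8, 4, 6, 4, 2, 4, 2] .nil .nil) (.cons [12, 10, 6, 4, 6, 12, 2] (.cons [4, 8, 2, 4, 2, 8, 4, 2, 8, 12, 4, 8, 6, 2, 4, 2] .nil .nil) (.cons [10, 12, 6, 4, 6, 12, 2] (.cons [2, 4, 2, 4, 8, 12, 4, 2, 4, 8, 4, 2, 4, 2] .nil .nil) (.cons [10, 6, 8, 4, 6, 12, 2] (.cons [2, 8, 4, 6, 4, 2, 4, 8, 12, 2, 4, 8, 2, 4, 2] .nil .nil) (.cons [12, 6, 8, 4, 6, 12, 2] .nil (.cons [6, 10, 8, 4, 6, 12, 2] .nil (.cons [4, 6, 10, 8, 6, 12, 2] (.cons [2, 4, 6, 8, 12, 4, 2, 4, 8, 6, 4, 2, 4, 2] (.cons [11, 0, 2, 4, 10, 0, 4] .nil .nil) .nil)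 (.cons [4, 6, 0, 2, 4, 6, 12] .nil (.cons [12, 6, 0, 2, 4, 6, 12] (.cons [6, 4, 2, 4, 6, 2, 8, 12, 4, 8, 6, 2, 4, 2] .nil .nil) (.cons [2, 4, 6, 2, 4, 6, 12] (.cons [4, 2, 4, 6, 2, 8, 12, 4, 8, 6, 4, 2, 4, 2] (.cons [4, 0, 4, 2, 0, 4, 11, 4, 0] .nil .nil) .nil) (.cons [8, 4, 6, 2, 4, 6, 12] .nil (.cons [6, 8, 4, 6, 4, 6, 12] .nil (.cons [6, 10, 4, 6, 4, 6, 12] (.cons [2, 4, 6, 4, 2, 8, 12, 4, 8, 6, 4, 2, 4, 2] .nil .nil) (.cons [10, 6, 0, 2, 4, 6, 4, 2] .nil (.cons [12, 6, 0, 2, 4, 6, 4, 2] (.cons [6, 4, 2, 4, 8, 12, 6, 4, 8, 2, 4, 2] .nil .nil) (.cons [6, 10, 0, 2, 4, 6, 4, 2] .nil (.cons [12, 4, 6, 2, 4, 6, 4, 2] .nil (.cons [10, 8, 6, 2, 4, 6, 4, 2] (.cons [12, 6, 4, 2, 4, 8, 6, 4, 2] (.cons [2, 4, 11, 0, 4, 11, 2, 0] .nil .nil) .nil) (.cons [12, 8, 6, 2, 4,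 6, 4, 2] (.cons [2, 8, 13, 4, 2, 6, 8, 12, 4, 8, 2, 4, 2] .nil .nil) (.cons [12, 10, 6, 2, 4, 6, 4, 2] (.cons [4, 8, 4, 2, 6, 4, 8, 12, 2, 4, 8, 2, 4, 2] .nil .nil) (.cons [10, 12, 6, 2, 4, 6, 4, 2] .nil (.cons [4, 6, 10, 2, 4, 6, 4, 2] (.cons [6, 4, 2, 4, 2, 8, 13, 4, 8, 6, 2, 4, 2] (.cons [11, 2] .nil .nil) .nil) (.cons [10, 6, 8, 6, 4, 6, 4, 2] .nil (.cons [12, 6, 8, 6, 4, 6, 4, 2] .nil (.cons [6, 10, 8, 6, 4, 6, 4, 2] .nil (.cons [8, 6, 10, 6, 4, 6, 4, 2] (.cons [2, 4, 2, 4, 8, 13, 4, 2, 4, 8, 4, 2, 4, 2] .nil .nil) (.cons [12, 6, 10, 6, 4, 6, 4, 2] .nil (.cons [6, 10, 12, 6, 4, 6, 4, 2] .nil (.cons [10, 12, 6, 8, 4, 6, 4, 2] .nil (.cons [4, 6, 10, 8, 4, 6, 4, 2] (.cons [2, 4, 6, 2, 8, 13, 4, 8, 6, 2, 4, 2] (.cons [11, 2, 0] .nil .nil) .nil) (.cons [2, 4,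 6, 10, 4, 6, 4, 2] (.cons [4, 2, 4, 8, 13, 4, 8, 6, 4, 8, 6, 2, 4, 2] .nil .nil) (.cons [8, 4, 6, 10, 4, 6, 4, 2] .nil (.cons [12, 4, 6, 10, 4, 6, 4, 2] (.cons [2, 6, 4, 2, 4, 2, 8, 12, 6, 4, 8, 2, 4, 2] (.cons [4, 10, 0, 4, 2] .nil .nil) .nil) (.cons [10, 12, 6, 10, 4, 6, 4, 2] (.cons [2, 4, 2, 6, 8, 12, 4, 8, 2, 4, 2] .nil .nil) (.cons [2, 4, 6, 10, 8, 6, 4, 2] (.cons [12, 8, 4, 6, 8, 12, 4, 8, 2, 4, 2] (.cons [4, 0, 2, 4, 11, 0, 4, 0] .nil .nil) .nil) (.cons [6, 4, 6, 10, 8, 6, 4, 2] .nil (.cons [4, 6, 0, 2, 4, 6, 12, 2] .nil (.cons [10, 6, 0, 2, 4, 6, 12, 2] (.cons [6, 4, 2, 8, 13, 4, 8, 6, 4, 2, 4, 2] .nil .nil) (.cons [12, 6, 0, 2, 4, 6, 12, 2] (.cons [2, 8, 4, 6, 2, 4, 8, 12, 2, 4, 8, 4, 2, 4, 2] .nil .nil) (.cons [6, 10, 0, 2, 4, 6, 12, 2] (.cons [12,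 4, 2, 4, 8, 6, 2, 4, 2] (.cons [2, 4, 11, 0, 2, 4, 10, 0, 4] .nil .nil) .nil) (.cons [8, 4, 6, 2, 4, 6, 12, 2] (.cons [4, 6, 4, 2, 8, 12, 4, 8, 6, 4, 2, 4, 2] (.cons [4, 10, 0, 2, 4, 11, 0, 2] .nil .nil) .nil) (.cons [12, 4, 6, 2, 4, 6, 12, 2] (.cons [12, 6, 4, 8, 6, 4, 2, 4, 2] .nil .nil) (.cons [10, 8, 6, 2, 4, 6, 12, 2] .nil (.cons [4, 6, 10, 2, 4, 6, 12, 2] (.cons [2, 4, 8, 13, 4, 8, 6, 4, 8, 6, 2, 4, 2] .nil .nil) (.cons [12, 6, 10, 2, 4, 6, 12, 2] (.cons [2, 4, 2, 8, 12, 4, 6, 2, 4, 8, 2, 4, 2] .nil .nil) (.cons [10, 6, 8, 6, 4, 6, 12, 2] (.cons [2, 4, 2, 4, 8, 13, 6, 2, 4, 8, 4, 6, 2, 4, 2] .nil .nil) (.cons [12, 6, 8, 6, 4, 6, 12, 2] .nil (.cons [6, 10, 8, 6, 4, 6, 12, 2] (.cons [2, 4, 2, 4, 8, 12, 6, 2, 4, 8, 4, 6, 2, 4, 2] .nil .nil) (.cons [6, 12, 8,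 6, 4, 6, 12, 2] .nil (.cons [6, 10, 12, 6, 4, 6, 12, 2] (.cons [2, 4, 2, 4, 8, 12, 8, 6, 4, 8, 6, 2, 4, 2] .nil .nil) (.cons [10, 12, 6, 8, 4, 6, 12, 2] (.cons [2, 4, 2, 4, 8, 13, 8, 6, 4, 8, 6, 2, 4, 2] .nil .nil) (.cons [6, 4, 6, 10, 8, 6, 12, 2] (.cons [2, 4, 6, 4, 2, 8, 12, 4, 8, 4, 6, 4, 2, 4, 2] .nil .nil) (.cons [2, 4, 6, 0, 2, 4, 6, 12] (.cons [6, 2, 8, 12, 4, 2, 4, 8, 6, 4, 2, 4, 2] (.cons [2, 4, 10, 4, 0, 4, 11] .nil .nil) .nil) (.cons [6, 4, 6, 0, 2, 4, 6, 12] .nil (.cons [6, 2, 4, 6, 2, 4, 6, 12] .nil (.cons [8, 2, 4, 6, 2, 4, 6, 12] (.cons [8, 13, 4, 8, 4, 6, 4, 2, 4, 2] (.cons [10, 4, 11, 0] .nil .nil) .nil) (.cons [8, 6, 4, 6, 2, 4, 6, 12] (.cons [6, 2, 4, 8, 12, 8, 4, 2, 4, 8, 2, 4, 2] .nil .nil) (.cons [12, 6, 4, 6, 2, 4, 6, 12] (.cons [6, 8,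 2, 4, 6, 8, 13, 4, 2, 4, 8, 6, 2, 4, 2] (.cons [2, 0, 4, 11, 4, 0] (.cons [] (.cons [0] (.leaf 0) .nil) .nil) .nil) .nil) (.cons [6, 8, 4, 6, 2, 4, 6, 12] (.cons [13, 8, 12, 4, 8, 6, 2, 4, 2] .nil .nil) (.cons [6, 12, 8, 6, 2, 4, 6, 12] (.cons [8, 12, 2, 4, 2, 6, 4, 8, 6, 2, 4, 2] (.cons [11, 0, 4, 0] .nil .nil) .nil) (.cons [6, 10, 12, 6, 2, 4, 6, 12] (.cons [4, 8, 6, 4, 2, 8, 12, 6, 4, 8, 2, 4, 2] (.cons [2, 0, 4, 11, 2, 0, 4, 0, 2] .nil .nil) .nil) (.cons [10, 8, 6, 0, 2, 4, 6, 4, 2] (.cons [8, 4, 8, 2, 4, 2, 8, 13, 4, 8, 6, 2, 4, 2] .nil .nil) (.cons [12, 8, 6, 0, 2, 4, 6, 4, 2] .nil (.cons [12, 10, 6, 0, 2, 4, 6, 4, 2] (.cons [4, 2, 8, 12, 4, 2, 8, 12, 6, 4, 8, 2, 4, 2] .nil .nil) (.cons [10, 12, 6, 0, 2, 4, 6, 4, 2] (.cons [6, 2, 4, 2, 4, 8, 13, 8, 4, 2,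 4, 8, 2, 4, 2] .nil .nil) (.cons [4, 6, 10, 0, 2, 4, 6, 4, 2] .nil (.cons [12, 6, 4, 6, 2, 4, 6, 4, 2] (.cons [6, 2, 4, 8, 12, 2, 4, 8, 4, 6, 2, 4, 2] (.cons [4, 0, 2, 0, 4, 10, 4, 0] .nil .nil) .nil) (.cons [6, 10, 4, 6, 2, 4, 6, 4, 2] (.cons [6, 8, 12, 4, 2, 4, 8, 6, 2, 4, 2] (.cons [2, 0, 4, 11, 2, 0, 4, 0, 2] .nil .nil) .nil) (.cons [12, 10, 4, 6, 2, 4, 6, 4, 2] (.cons [4, 2, 8, 13, 4, 2, 4, 8, 4, 2, 4, 2] .nil .nil) (.cons [10, 12, 4, 6, 2, 4, 6, 4, 2] (.cons [2, 8, 12, 4, 2, 8, 12, 4, 8, 6, 2, 4, 2] (.cons [11, 2, 4, 11, 0, 2] .nil .nil) .nil) (.cons [6, 12, 8, 6, 2, 4, 6, 4, 2] .nil (.cons [8, 6, 10, 6, 2, 4, 6, 4, 2] (.cons [2, 4, 8, 12, 6, 2, 4, 8, 4, 2, 4, 2] .nil .nil) (.cons [8, 4, 6, 10, 2, 4, 6, 4, 2] .nil (.cons [12, 4, 6, 10, 2, 4, 6, 4, 2] (.cons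 [8, 12, 2, 4, 8, 4, 6, 2, 4, 2] (.cons [0, 4, 11, 0, 2, 4, 0, 2] .nil .nil) .nil) (.cons [6, 10, 6, 8, 6, 4, 6, 4, 2] (.cons [8, 2, 4, 2, 8, 12, 4, 2, 4, 8, 6, 4, 2] .nil .nil) (.cons [6, 12, 6, 8, 6, 4, 6, 4, 2] (.cons [6, 4, 2, 4, 2, 8, 13, 4, 2, 4, 8, 6, 4, 2] .nil .nil) (.cons [8, 6, 10, 8, 6, 4, 6, 4, 2] (.cons [12, 6, 4, 2, 4, 8, 6, 4, 2] .nil .nil) (.cons [4, 6, 12, 8, 6, 4, 6, 4, 2] (.cons [8, 4, 2, 6, 8, 12, 4, 8, 2, 4, 2] (.cons [0, 4, 10, 0, 2] .nil .nil) .nil) (.cons [8, 6, 10, 12, 6, 4, 6, 4, 2] (.cons [13, 2, 4, 8, 6, 2, 4, 2] .nil .nil) (.cons [12, 6, 10, 12, 6, 4, 6, 4, 2] (.cons [12, 4, 6, 2, 4, 2, 4, 8, 4, 2, 4, 2] .nil .nil) (.cons [2, 4, 6, 10, 8, 4, 6, 4, 2] (.cons [8, 6, 4, 2, 8, 13, 4, 8, 6, 2, 4, 2] .nil .nil) (.cons [6, 4, 6, 10, 8, 4,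 6, 4, 2] .nil (.cons [0, 2, 4, 6, 10, 4, 6, 4, 2] (.cons [2, 4, 8, 13, 8, 6, 4, 8, 6, 2, 4, 2] .nil .nil) (.cons [6, 10, 12, 6, 10, 4, 6, 4, 2] (.cons [8, 4, 6, 2, 4, 2, 8, 12, 6, 4, 8, 2, 4, 2] .nil .nil) (.cons [8, 6, 4, 6, 10, 8, 6, 4, 2] (.cons [4, 2, 4, 8, 4, 2, 4, 8, 13, 2, 4, 8, 2, 4, 2] .nil .nil) (.cons [6, 4, 6, 0, 2, 4, 6, 12, 2] (.cons [4, 6, 8, 4, 2, 4, 8, 13, 4, 8, 6, 4, 8, 6, 2, 4, 2] .nil .nil) (.cons [6, 8, 4, 6, 2, 4, 6, 12, 2] (.cons [6, 2, 4, 2, 4, 2, 8, 12, 4, 2, 4, 8, 6, 4, 2] .nil .nil) (.cons [12, 8, 4, 6, 2, 4, 6, 12, 2] .nil (.cons [12, 10, 4, 6, 2, 4, 6, 12, 2] .nil (.cons [6, 10, 8, 6, 2, 4, 6, 12, 2] .nil (.cons [8, 4, 6, 10, 2, 4, 6, 12, 2] (.cons [13, 8, 4, 2, 4, 2] .nil .nil) (.cons [12, 4, 6, 10, 2, 4, 6, 12, 2] .nil (.cons [4,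 6, 10, 12, 6, 4, 6, 12, 2] .nil (.cons [12, 6, 10, 12, 6, 4, 6, 12, 2] .nil (.cons [4, 6, 4, 6, 10, 8, 6, 12, 2] .nil (.cons [8, 6, 4, 6, 10, 8, 6, 12, 2] (.cons [2, 4, 8, 2, 4, 2] .nil .nil) (.cons [10, 6, 4, 6, 0, 2, 4, 6, 12] (.cons [4, 6, 2, 4, 2, 6, 8, 12, 4, 8, 2, 4, 2] .nil .nil) (.cons [12, 6, 4, 6, 0, 2, 4, 6, 12] .nil (.cons [6, 12, 4, 6, 0, 2, 4, 6, 12] .nil (.cons [8, 6, 2, 4, 6, 2, 4, 6, 12] (.cons [6, 2, 4, 2, 4, 8, 12, 6, 8, 4, 2, 4, 8, 2, 4, 2] (.cons [10, 0, 4, 0] .nil .nil) .nil) (.cons [6, 8, 2, 4, 6, 2, 4, 6, 12] (.cons [2, 4, 6, 2, 4, 2, 4, 8, 4, 2, 4, 2] .nil .nil) (.cons [6, 4, 6, 4, 6, 2, 4, 6, 12] .nil (.cons [12, 4, 6, 4, 6, 2, 4, 6, 12] .nil (.cons [10, 8, 6, 4, 6, 2, 4, 6, 12] (.cons [12, 6, 4, 8, 6, 4, 2, 4, 2] .nil .nil) (.cons [12,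 8, 6, 4, 6, 2, 4, 6, 12] .nil (.cons [10, 12, 6, 4, 6, 2, 4, 6, 12] .nil (.cons [12, 2, 4, 6, 0, 2, 4, 6, 4, 2] .nil (.cons [6, 4, 6, 10, 0, 2, 4, 6, 4, 2] .nil (.cons [6, 12, 6, 4, 6, 2, 4, 6, 4, 2] .nil (.cons [8, 6, 10, 8, 6, 2, 4, 6, 4, 2] (.cons [2, 4, 8, 12, 6, 2, 4, 8, 4, 2, 4, 2] .nil .nil) (.cons [6, 12, 4, 6, 10, 2, 4, 6, 4, 2] (.cons [12, 2, 4, 2, 8, 12, 6, 4, 8, 2, 4, 2] .nil .nil) (.cons [6, 10, 12, 6, 10, 2, 4, 6, 4, 2] .nil (.cons [12, 6, 10, 6, 8, 6, 4, 6, 4, 2] (.cons [13, 4, 6, 2, 4, 2, 4, 8, 4, 2, 4, 2] .nil .nil) (.cons [2, 4, 6, 10, 12, 6, 4, 6, 4, 2] (.cons [2, 4, 8, 12, 4, 2, 4, 8, 4, 2, 4, 2] (.cons [4, 2, 0, 4, 10, 4] .nil .nil) .nil) (.cons [6, 2, 4, 6, 0, 2, 4, 6, 12, 2] .nil (.cons [10, 6, 4, 6, 0, 2, 4, 6, 12, 2] .nil (.cons [12, 10,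 4, 6, 0, 2, 4, 6, 12, 2] (.cons [8, 12, 4, 6, 8, 4, 2, 4, 8, 2, 4, 2] .nil .nil) (.cons [6, 12, 4, 6, 0, 2, 4, 6, 12, 2] .nil (.cons [6, 10, 12, 6, 0, 2, 4, 6, 12, 2] .nil (.cons [6, 4, 6, 10, 0, 2, 4, 6, 12, 2] (.cons [2, 4, 6, 2, 4, 8, 13, 2, 4, 8, 4, 6, 2, 4, 2] .nil .nil) (.cons [10, 4, 6, 4, 6, 2, 4, 6, 12, 2] (.cons [4, 8, 13, 6, 2, 4, 8, 4, 2, 4, 2] .nil .nil) (.cons [6, 10, 6, 4, 6, 2, 4, 6, 12, 2] (.cons [13, 2, 4, 6, 2, 8, 12, 4, 8, 6, 2, 4, 2] (.cons [11, 2] .nil .nil) .nil) (.cons [8, 6, 10, 4, 6, 2, 4, 6, 12, 2] (.cons [4, 2, 8, 4, 6, 2, 4, 8, 12, 2, 4, 8, 4, 2, 4, 2] .nil .nil) (.cons [12, 6, 10, 12, 6, 2, 4, 6, 12, 2] .nil (.cons [12, 6, 4, 6, 10, 2, 4, 6, 12, 2] (.cons [6, 8, 4, 8, 12, 8, 4, 2, 4, 8, 2, 4, 2] .nil .nil) (.cons [6, 8, 4, 6, 10,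 2, 4, 6, 12, 2] (.cons [6, 4, 8, 12, 6, 4, 2, 4, 8, 6, 4, 2] .nil .nil) (.cons [6, 12, 4, 6, 10, 2, 4, 6, 12, 2] .nil (.cons [2, 4, 6, 4, 6, 10, 8, 6, 12, 2] (.cons [8, 4, 2, 4, 8, 12, 6, 4, 8, 4, 2, 4, 2] .nil .nil) (.cons [12, 6, 2, 4, 6, 0, 2, 4, 6, 12] .nil (.cons [8, 4, 6, 4, 6, 0, 2, 4, 6, 12] .nil (.cons [6, 12, 6, 4, 6, 0, 2, 4, 6, 12] (.cons [2, 8, 12, 4, 2, 4, 8, 6, 4, 2] (.cons [4, 10, 2] .nil .nil) .nil) (.cons [10, 12, 6, 4, 6, 0, 2, 4, 6, 12] (.cons [2, 4, 8, 13, 2, 4, 8, 4, 2, 4, 2] .nil .nil) (.cons [10, 6, 8, 4, 6, 0, 2, 4, 6, 12] .nil (.cons [10, 6, 12, 4, 6, 0, 2, 4, 6, 12] (.cons [4, 2, 4, 8, 12, 6, 4, 8, 2, 4, 2] .nil .nil) (.cons [12, 4, 6, 2, 4, 6, 2, 4, 6, 12] (.cons [4, 2, 4, 8, 12, 8, 6, 4, 8, 6, 2, 4, 2] .nil .nil) (.cons [12, 8, 6,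 2, 4, 6, 2, 4, 6, 12] .nil (.cons [10, 6, 4, 6, 4, 6, 2, 4, 6, 12] (.cons [6, 4, 6, 2, 4, 6, 2, 8, 12, 4, 2, 4, 8, 6, 4, 2] .nil .nil) (.cons [12, 6, 4, 6, 4, 6, 2, 4, 6, 12] (.cons [2, 4, 6, 2, 8, 12, 4, 8, 4, 6, 4, 2, 4, 2] .nil .nil) (.cons [6, 8, 4, 6, 4, 6, 2, 4, 6, 12] .nil (.cons [10, 6, 8, 6, 4, 6, 2, 4, 6, 12] .nil (.cons [12, 10, 6, 8, 4, 6, 2, 4, 6, 12] (.cons [13, 2, 4, 6, 2, 4, 8, 2, 4, 2] .nil .nil) (.cons [10, 12, 6, 8, 4, 6, 2, 4, 6, 12] (.cons [4, 2, 4, 8, 6, 2, 4, 2] .nil .nil) (.cons [12, 6, 10, 4, 6, 0, 2, 4, 6, 4, 2] .nil (.cons [4, 6, 10, 12, 6, 0, 2, 4, 6, 4, 2] (.cons [12, 8, 4, 6, 2, 4, 2] (.cons [4, 10, 4, 0, 2, 0, 4, 11, 4] .nil .nil) .nil) (.cons [6, 4, 6, 12, 8, 6, 2, 4, 6, 4, 2] .nil (.cons [6, 8, 4, 6, 10, 6, 2, 4, 6, 4, 2] .nil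 (.cons [6, 0, 2, 4, 6, 10, 2, 4, 6, 4, 2] (.cons [13, 8, 4, 2, 4, 2] .nil .nil) (.cons [10, 12, 6, 4, 6, 10, 2, 4, 6, 4, 2] (.cons [6, 4, 8, 2, 4, 2, 8, 12, 4, 2, 4, 8, 6, 4, 2] .nil .nil) (.cons [4, 6, 12, 4, 6, 10, 2, 4, 6, 4, 2] (.cons [8, 4, 2, 4, 2] (.cons [2, 4, 11, 0, 4, 11, 2, 0] .nil .nil) .nil) (.cons [0, 2, 4, 6, 10, 8, 6, 4, 6, 4, 2] .nil (.cons [4, 6, 8, 2, 4, 6, 10, 4, 6, 4, 2] (.cons [6, 2, 4, 6, 8, 12, 4, 2, 4, 8, 4, 2, 4, 2] .nil .nil) (.cons [2, 4, 6, 2, 4, 6, 10, 8, 6, 4, 2] .nil (.cons [6, 12, 2, 4, 6, 0, 2, 4, 6, 12, 2] (.cons [6, 4, 8, 13, 6, 8, 4, 2, 4, 8, 2, 4, 2] (.cons [10, 4] .nil .nil) .nil) (.cons [10, 8, 6, 4, 6, 0, 2, 4, 6, 12, 2] (.cons [4, 6, 2, 4, 2] (.cons [0, 2, 0, 4, 11, 0, 2, 4, 0, 2] .nil .nil) .nil) (.cons [12, 8, 6, 4,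 6, 0, 2, 4, 6, 12, 2] (.cons [6, 4, 2, 4, 8, 13, 2, 4, 8, 2, 4, 2] .nil .nil) (.cons [10, 12, 6, 4, 6, 0, 2, 4, 6, 12, 2] (.cons [6, 2, 4, 2, 4, 8, 13, 8, 4, 2, 4, 8, 2, 4, 2] (.cons [10, 0, 2, 4, 11, 0, 2] .nil .nil) .nil) (.cons [8, 6, 10, 4, 6, 0, 2, 4, 6, 12, 2] (.cons [2, 8, 4, 6, 2, 4, 8, 12, 2, 4, 8, 4, 2, 4, 2] .nil .nil) (.cons [10, 6, 4, 6, 10, 0, 2, 4, 6, 12, 2] (.cons [2, 4, 8, 4, 2, 4, 2] .nil .nil) (.cons [10, 2, 4, 6, 4, 6, 2, 4, 6, 12, 2] .nil (.cons [12, 10, 4, 6, 4, 6, 2, 4, 6, 12, 2] .nil (.cons [2, 4, 6, 12, 4, 6, 2, 4, 6, 12, 2] .nil (.cons [12, 10, 6, 4, 6, 10, 2, 4, 6, 12, 2] .nil (.cons [6, 12, 6, 4, 6, 10, 2, 4, 6, 12, 2] (.cons [8, 2, 4, 2, 8, 12, 4, 8, 6, 4, 2, 4, 2] .nil .nil) (.cons [4, 6, 8, 4, 6, 10, 2, 4, 6, 12, 2] (.cons [12, 6,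 8, 12, 4, 8, 2, 4, 2] .nil .nil) (.cons [10, 8, 6, 2, 4, 6, 0, 2, 4, 6, 12] (.cons [4, 8, 2, 4, 2, 8, 12, 4, 8, 6, 4, 2, 4, 2] .nil .nil) (.cons [6, 10, 12, 6, 4, 6, 0, 2, 4, 6, 12] .nil (.cons [12, 10, 6, 12, 4, 6, 0, 2, 4, 6, 12] (.cons [13, 4, 2, 4, 8, 6, 4, 2] .nil .nil) (.cons [4, 6, 8, 6, 2, 4, 6, 2, 4, 6, 12] .nil (.cons [12, 6, 2, 4, 6, 4, 6, 2, 4, 6, 12] (.cons [4, 6, 4, 2, 8, 12, 4, 8, 4, 6, 4, 2, 4, 2] (.cons [0, 4, 2] .nil .nil) .nil) (.cons [6, 8, 6, 4, 6, 4, 6, 2, 4, 6, 12] .nil (.cons [4, 6, 10, 4, 6, 4, 6, 2, 4, 6, 12] (.cons [6, 2, 4, 8, 2, 4, 8, 12, 6, 4, 8, 2, 4, 2] (.cons [2, 4, 11, 0, 4, 0] .nil .nil) .nil) (.cons [6, 4, 6, 12, 4, 6, 0, 2, 4, 6, 4, 2] (.cons [6, 2, 8, 13, 4, 8, 6, 4, 2, 4, 2] .nil .nil) (.cons [8, 4, 6, 12, 4, 6, 0, 2, 4,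 6, 4, 2] (.cons [8, 13, 4, 8, 4, 6, 2, 4, 2] .nil .nil) (.cons [12, 6, 10, 6, 12, 4, 6, 2, 4, 6, 4, 2] (.cons [6, 4, 2, 4, 6, 2, 8, 12, 4, 8, 6, 4, 2, 4, 2] (.cons [2, 0, 4, 11, 4] .nil .nil) .nil) (.cons [12, 6, 4, 6, 10, 8, 6, 2, 4, 6, 4, 2] (.cons [8, 6, 4, 2, 8, 13, 4, 8, 6, 2, 4, 2] (.cons [0, 4, 10, 2, 4, 0, 2] .nil .nil) .nil) (.cons [10, 6, 2, 4, 6, 10, 12, 6, 4, 6, 4, 2] (.cons [6, 8, 4, 2, 8, 12, 4, 8, 6, 2, 4, 2] (.cons [10, 4, 11, 0, 4, 2] .nil .nil) .nil) (.cons [12, 10, 4, 6, 8, 4, 6, 2, 4, 6, 12, 2] (.cons [2, 4, 2, 8, 12, 4, 8, 6, 4, 2, 4, 2] .nil .nil) (.cons [6, 2, 4, 6, 12, 4, 6, 2, 4, 6, 12, 2] .nil (.cons [10, 8, 6, 12, 10, 4, 6, 0, 2, 4, 6, 4, 2] (.cons [6, 4, 2, 4, 8, 12, 4, 2, 4, 8, 4, 2, 4, 2] .nil .nil) (.cons [4, 6, 8, 4, 6, 10, 8, 6,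 2, 4, 6, 4, 2] (.cons [6, 4, 2, 4, 8, 12, 8, 4, 2, 4, 8, 2, 4, 2] (.cons [0, 4, 11, 4, 0, 4, 2, 0, 4, 11, 4, 0] .nil .nil) .nil) (.cons [6, 12, 4, 6, 10, 12, 6, 4, 6, 2, 4, 6, 12] .nil .nil)))))))))))))))))))))))))))))))))))))))))))))))))))))))))))))))))))))))))))))))))))))))))))))))))))))))))))))))))))))))))))))))))))))))))))))))))))))))))))))))))))))))))))))))))))))))))))))))))))))))))))))))))))))))))))))))))))))))))))))))))))))))))))))))))))))))) (⟨cu_l0.b, cu_l0.S, [], cu_R0, 0⟩ :: cu_tl) (0 :: cu_lk) Pd.nil 0 = true := by decide +kernel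
theorem cu_sound {G : Type*} [Group G] {φ : G →* Equiv.Perm ℕ} {γ : ℕ → G}
    (M : Model φ γ 12 m_ns m_ts) : ChainSound φ (gp γ [0, 2, 4, 6, 8, 10, 12]) 12 [] cu_ls :=
  ⟨Level.ok_sound' M cu_l0_ok,
   Level.ok_sound' M cu_l1_ok,
   Level.ok_sound' M cu_l2_ok,
   Level.okT_sound M cu_l3_ok,
   Level.okT_sound M cu_l4_ok, trivial⟩
theorem cu_cent {G : Type*} [Group G] {φ : G →* Equiv.Perm ℕ} {γ : ℕ → G}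
    (C : Cert φ γ 12 m_ns m_ts [0, 2, 4, 6, 8, 10, 12] c_ls) : Cent γ cu_S.u cu_S.Cl 7 :=
  have X := (C.rechain (cu_sound C.M) (by decide +kernel)).exact
  have A := Srch.auxB_sound (S := cu_S) C.M (K := ⊤) le_top rfl cu_aux
  have F := fun {tr : Tr} {R : ℕ} => Srch.found_of_run (S := cu_S) C.M C.base (by decide +kernel) X A (tr := tr) (R := R)
  Cent.of_found (S := cu_S) C.M X rfl (F cu_r0) cu_cov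

end Cfsg.Agent.HeC
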